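import Groth.Prelude.Def_Frob
import Groth.Agent.Lib.Ideal.Comap
import Mathlib.FieldTheory.IsAlgClosed.AlgebraicClosure
import Mathlib.FieldTheory.Finite.Basic
import Mathlib.FieldTheory.Perfect

/-!
# Correspondences twisted by a power of Frobenius are contracting
-/

set_option autoImplicit false

universe u

open AlgebraicGeometry CategoryTheory

namespace Groth.Agent.Lib.TwistContract.Basic

variable (p : ℕ) [Fact p.Prime]

/-- iterates of the absolute Frobenius -/
noncomputable def FN (C : Scheme.{u}) [FrobSch.IsCharP C p] (N : ℕ) : C ⟶ C :=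
  End.asHom (End.of (FrobSch.frob C p) ^ N)

variable {C D : Scheme.{u}} [FrobSch.IsCharP C p] [FrobSch.IsCharP D p]

theorem FN_succ (N : ℕ) : FN p C (N + 1) = FN p C N ≫ FrobSch.frob C p := by
  unfold FN; rw [pow_succ']; rfl

theorem FN_zero : FN p C 0 = 𝟙 C := rfl

theorem FN_apply (N : ℕ) (y : C) : FN p C N y = y := by
  induction N with
  | zero => rfl
  | succ N ih =>
    rw [FN_succ, Scheme.Hom.comp_apply, ih]
    rfl

theorem FN_comp (f : C ⟶ D) (N : ℕ) : FN p C N ≫ f = f ≫ FN p D N := by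
  induction N with
  | zero => simp [FN_zero]
  | succ N ih => rw [FN_succ, FN_succ, Category.assoc, FrobSch.frob_comp, reassoc_of% ih]

theorem le_preimage (N : ℕ) (V : C.Opens) : V ≤ FN p C N ⁻¹ᵁ V := fun y hy => by
  show FN p C N y ∈ V
  rw [FN_apply]; exact hy

theorem appLE_FN (N : ℕ) : ∀ (V : C.Opens) (e : V ≤ FN p C N ⁻¹ᵁ V) (s : Γ(C, V)),
    ((FN p C N).appLE V V e).hom s = s ^ (p ^ N) := by
  induction N with
  | zero =>
    intro V e s
    rw [pow_zero, pow_one]
    show ((𝟙 C : C ⟶ C).app V ≫ C.presheaf.map (homOfLE e).op).hom s = s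
    rw [Subsingleton.elim (homOfLE e).op (𝟙 _)]
    erw [CategoryTheory.Functor.map_id]
    rfl
  | succ N ih =>
    intro V e s
    have e1 : V ≤ FrobSch.frob C p ⁻¹ᵁ V := le_refl _
    have h1 : (FN p C (N + 1)).appLE V V e =
        (FrobSch.frob C p).appLE V V e1 ≫ (FN p C N).appLE V V (le_preimage p N V) := by
      rw [Scheme.Hom.appLE_comp_appLE]
      congr 1
      exact FN_succ p N
    have h2 : ((FrobSch.frob C p).appLE V V e1).hom s = s ^ p := by
      show ((FrobSch.frob C p).app V ≫ C.presheaf.map (homOfLE e1).op).hom s = s ^ p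
      rw [Subsingleton.elim (homOfLE e1).op (𝟙 _)]
      erw [CategoryTheory.Functor.map_id]
      rfl
    rw [h1, CommRingCat.hom_comp, RingHom.comp_apply, h2, map_pow, ih, ← pow_mul, ← pow_succ]

theorem appTop_FN (N : ℕ) : ∀ (s : Γ(C, ⊤)), (FN p C N).appTop.hom s = s ^ (p ^ N) := by
  induction N with
  | zero => intro s; rw [pow_zero, pow_one]; rfl
  | succ N ih =>
    intro s
    rw [FN_succ, Scheme.Hom.comp_appTop, CommRingCat.hom_comp, RingHom.comp_apply,
      show (FrobSch.frob C p).appTop.hom s = s ^ p from rfl, map_pow, ih, ← pow_mul, ← pow_succ]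

/-- Frobenius pulls an ideal inside the `p^N`-th power of any ideal containing it. -/
theorem comap_FN_le (N : ℕ) {A B : C.IdealSheafData} (h : A ≤ B) : A.comap (FN p C N) ≤ B ^ (p ^ N) := by
  intro V
  rw [Groth.Agent.Lib.Ideal.Comap.ideal_comap (FN p C N) A V V (le_preimage p N V.1),
    Scheme.IdealSheafData.ideal_pow, Pi.pow_apply, Ideal.map_le_iff_le_comap]
  intro s hs
  rw [Ideal.mem_comap, appLE_FN]
  exact Ideal.pow_mem_pow (h V hs) _

theorem pow_mono {A B : C.IdealSheafData} (h : A ≤ B) (k : ℕ) : A ^ k ≤ B ^ k := fun V => by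
  simp only [Scheme.IdealSheafData.ideal_pow, Pi.pow_apply]
  exact Ideal.pow_right_mono (h V) k

theorem pow_le_pow {A : C.IdealSheafData} {a b : ℕ} (h : a ≤ b) : A ^ b ≤ A ^ a := fun V => by
  simp only [Scheme.IdealSheafData.ideal_pow, Pi.pow_apply]
  exact Ideal.pow_le_pow_right h

/-- The contraction criterion. -/
theorem contracting {X : Scheme.{u}} (N : ℕ) (g b : C ⟶ X) (I : X.IdealSheafData) (d : ℕ)
    (hd : (I.comap b).radical ^ d ≤ I.comap b) (hn : d < p ^ N)
    (hsupp : ∀ y, b y ∈ I.support → g y ∈ I.support) :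
    I.comap (FN p C N ≫ g) ≤ I.comap b ∧ I.comap (FN p C N ≫ g) ^ d ≤ I.comap b ^ (d + 1) := by
  have hA : I.comap g ≤ (I.comap b).radical := by
    rw [← Scheme.IdealSheafData.vanishingIdeal_support]
    refine Scheme.IdealSheafData.le_support_iff_le_vanishingIdeal.mp ?_
    rw [Scheme.IdealSheafData.support_comap, Scheme.IdealSheafData.support_comap]
    exact hsupp
  have hL : I.comap (FN p C N ≫ g) ≤ (I.comap b).radical ^ (p ^ N) := by
    rw [Scheme.IdealSheafData.comap_comp]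
    exact comap_FN_le p N hA
  refine ⟨(hL.trans (pow_le_pow hn.le)).trans hd, (pow_mono hL d).trans ?_⟩
  rw [← pow_mul, mul_comm, pow_mul]
  exact (pow_mono hd _).trans (pow_le_pow hn)

/-- The relative Frobenius of `C₀ ×_{k₀} K` is an absolute Frobenius followed by another morphism. -/
theorem exists_factor {C₀ : Scheme.{u}} [FrobSch.IsCharP C₀ p]
    (k₀ : Type u) [Field k₀] [Fintype k₀] [CharP k₀ p] (e : ℕ) (hq : Fintype.card k₀ = p ^ e)
    (K : Type u) [Field K] [Algebra k₀ K] [IsAlgClosure k₀ K] [CharP K p]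
    (f₀ : C₀ ⟶ Spec (CommRingCat.of k₀))
    (πC₀ : C ⟶ C₀) (πK : C ⟶ Spec (CommRingCat.of K))
    (hC : IsPullback πC₀ πK f₀ (Spec.map (CommRingCat.ofHom (algebraMap k₀ K))))
    (n : ℕ) (Fr : C ⟶ C) (hFr₀ : Fr ≫ πC₀ = πC₀ ≫ FN p C₀ (e * n)) (hFrK : Fr ≫ πK = πK) :
    ∃ σ : C ⟶ C, Fr = FN p C (e * n) ≫ σ ∧ σ ≫ πC₀ = πC₀ := by
  haveI : IsAlgClosed K := IsAlgClosure.isAlgClosed k₀
  haveI : PerfectRing K p := PerfectField.toPerfectRing p
  have hK : FN p (Spec (CommRingCat.of K)) (e * n) =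
      Spec.map (CommRingCat.ofHom (iterateFrobenius K p (e * n))) := by
    refine ext_to_Spec ?_
    ext x
    show ((FN p (Spec (CommRingCat.of K)) (e * n)).appTop).hom ((Scheme.ΓSpecIso (CommRingCat.of K)).inv.hom x) =
      ((Spec.map (CommRingCat.ofHom (iterateFrobenius K p (e * n)))).appTop).hom ((Scheme.ΓSpecIso (CommRingCat.of K)).inv.hom x)
    rw [appTop_FN, ← map_pow]
    exact ConcreteCategory.congr_hom
      (Scheme.ΓSpecIso_inv_naturality (CommRingCat.ofHom (iterateFrobenius K p (e * n)))) x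
  let φ : K ≃+* K := iterateFrobeniusEquiv K p (e * n)
  let s : Spec (CommRingCat.of K) ⟶ Spec (CommRingCat.of K) := Spec.map (CommRingCat.ofHom φ.symm.toRingHom)
  have hs : FN p (Spec (CommRingCat.of K)) (e * n) ≫ s = 𝟙 _ := by
    rw [hK, ← Spec.map_comp, ← Spec.map_id]
    congr 1
    ext x
    exact φ.apply_symm_apply x
  have hs₀ : s ≫ Spec.map (CommRingCat.ofHom (algebraMap k₀ K)) =
      Spec.map (CommRingCat.ofHom (algebraMap k₀ K)) := by
    rw [← Spec.map_comp]
    congr 1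
    ext x
    refine φ.injective ?_
    show φ (φ.symm (algebraMap k₀ K x)) = φ (algebraMap k₀ K x)
    rw [φ.apply_symm_apply]
    show _ = iterateFrobenius K p (e * n) _
    rw [iterateFrobenius_def, ← map_pow, pow_mul, ← hq, FiniteField.pow_card_pow]
  obtain ⟨σ, hσ₀, hσK⟩ := hC.exists_lift πC₀ (πK ≫ s) (by rw [Category.assoc, hs₀]; exact hC.w)
  refine ⟨σ, hC.hom_ext ?_ ?_, hσ₀⟩
  · rw [hFr₀, Category.assoc, hσ₀, FN_comp]
  · rw [hFrK, Category.assoc, hσK, reassoc_of% FN_comp, hs, Category.comp_id]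

end Groth.Agent.Lib.TwistContract.Basic
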